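import Cfsg.Agent.Lib.GLThreeSylow.Mono
import Cfsg.Agent.Lib.Transfer.Thompson
import Mathlib.RingTheory.IntegralDomain

/-!
# Fusion in a group whose Sylow 2-subgroup is monomial of degree 3 and rank 3

`index_two_of_mono`: if the non-abelian Sylow 2-subgroup embeds into `Mono` and contains an elementary abelian
subgroup of order 8, then the group has a subgroup of index 2. The central fours group is `A = {1, y, z, zy}`,
whose elements are pairwise not conjugate; for a non-central involution `s` conjugate to `c ∈ {z, zy}`, `s·c·y` is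
conjugate to `y`. Transfer with the characters `chi` and `delta` provides four classes of such `s`, and two of
them must lie in one coset of `A` after conjugation in the Sylow subgroup.
-/

set_option autoImplicit false
set_option linter.style.haveILetI false

namespace Cfsg.Agent.GLThreeSylow

open Mono
open scoped commutatorElement

theorem Mono.IsA.mul {K : Type*} [Field K] {x y : Mono K} (hx : IsA x) (hy : IsA y) : IsA (x * y) := by
  refine isA_of_diag (by simp [hx.s_eq, hy.s_eq]) ?_ (by simp [hx.s_eq, hx.ab_eq, hy.ab_eq])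
  calc x * y * (x * y) = x * (y * x) * y := by group
    _ = x * x * (y * y) := by rw [← hx.comm y]; group
    _ = 1 := by rw [hx.sq, hy.sq, one_mul]

theorem Mono.pow_diag {K : Type*} [Field K] {m : Mono K} (hm : m.s = false) (n : ℕ) :
    (m ^ n).s = false ∧ (m ^ n).a = m.a ^ n ∧ (m ^ n).b = m.b ^ n := by
  induction n with
  | zero => simp
  | succ n ih => rw [pow_succ]; simp [hm, ih.1, ih.2.1, ih.2.2, pow_succ]

/-- In a cyclic group one of `u`, `v`, `u⁻¹v` is a square. -/
theorem exists_square {T : Type*} [CommGroup T] [IsCyclic T] (u v : T) :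
    IsSquare u ∨ IsSquare v ∨ IsSquare (u⁻¹ * v) := by
  obtain ⟨g, hg⟩ := IsCyclic.exists_generator (α := T)
  obtain ⟨m, rfl⟩ := Subgroup.mem_zpowers_iff.mp (hg u)
  obtain ⟨n, rfl⟩ := Subgroup.mem_zpowers_iff.mp (hg v)
  rcases Int.even_or_odd m with hm | hm
  · exact Or.inl (hm.isSquare_zpow g)
  rcases Int.even_or_odd n with hn | hn
  · exact Or.inr (Or.inl (hn.isSquare_zpow g))
  · refine Or.inr (Or.inr ?_)
    rw [← zpow_neg, ← zpow_add]
    exact (hm.neg.add_odd hn).isSquare_zpow g

variable {G : Type*} [Group G]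

/-- Conjugacy in `G` of elements of a subgroup. -/
def GConj {X : Subgroup G} (u v : X) : Prop := ∃ g : G, g * u * g⁻¹ = v

theorem GConj.refl {X : Subgroup G} (u : X) : GConj u u := ⟨1, by simp⟩

theorem GConj.symm {X : Subgroup G} {u v : X} (h : GConj u v) : GConj v u := by
  obtain ⟨g, hg⟩ := h
  exact ⟨g⁻¹, by rw [← hg]; group⟩

theorem GConj.trans {X : Subgroup G} {u v w : X} (h : GConj u v) (h' : GConj v w) : GConj u w := by
  obtain ⟨g, hg⟩ := h
  obtain ⟨g', hg'⟩ := h'
  exact ⟨g' * g, by rw [← hg', ← hg]; group⟩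

theorem GConj.of_inner {X : Subgroup G} (x u : X) : GConj u (x * u * x⁻¹) := ⟨x, by simp⟩

/-- A homomorphism to the units of a field moving an involution gives a subgroup of index 2. -/
theorem exists_index_two_of_hom [Finite G] {K : Type*} [Field K] (f : G →* Kˣ) {u : G} (hu : u * u = 1) (hf : f u ≠ 1) :
    ∃ H : Subgroup G, H.index = 2 := by
  classical
  haveI : Finite f.range := Finite.of_surjective f.rangeRestrict f.rangeRestrict_surjective
  let sq : f.range →* f.range := powMonoidHom 2
  have hker : Nat.card sq.ker = 2 := by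
    have hmem : (⟨f u, u, rfl⟩ : f.range) ∈ sq.ker := by
      rw [MonoidHom.mem_ker]
      refine Subtype.ext ?_
      show f u ^ 2 = 1
      rw [pow_two, ← map_mul, hu, map_one]
    refine (Nat.card_eq_two_iff' (1 : sq.ker)).mpr
      ⟨⟨_, hmem⟩, fun h => hf (congrArg (fun x : sq.ker => ((x : f.range) : Kˣ)) h), ?_⟩
    rintro ⟨⟨x, hx⟩, hxk⟩ hne
    have hxx : x * x = 1 := by
      have h := congrArg (fun x : f.range => (x : Kˣ)) (MonoidHom.mem_ker.mp hxk)
      simpa [sq, pow_two] using h
    have hfu : f u = -1 := (eq_or_eq_neg_one (by rw [← map_mul, hu, map_one])).resolve_left hf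
    rcases eq_or_eq_neg_one hxx with h | h
    · exact absurd (Subtype.ext (Subtype.ext h)) hne
    · exact Subtype.ext (Subtype.ext (h.trans hfu.symm))
  refine ⟨sq.range.comap f.rangeRestrict, ?_⟩
  rw [Subgroup.index_comap_of_surjective _ f.rangeRestrict_surjective]
  have h1 := Subgroup.card_mul_index sq.range
  have h2 : Nat.card sq.range * 2 = Nat.card f.range := by
    rw [← hker, mul_comm, ← Subgroup.index_ker sq]
    exact Subgroup.card_mul_index sq.ker
  rw [← h2] at h1
  exact Nat.eq_of_mul_eq_mul_left Nat.card_pos h1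

theorem exists_pigeon (b : Fin 4 → Bool) :
    (∃ i j, i ≠ j ∧ b i = false ∧ b j = false) ∨
      ∃ i j k, i ≠ j ∧ i ≠ k ∧ j ≠ k ∧ b i = true ∧ b j = true ∧ b k = true := by
  revert b; decide

variable (X : Sylow 2 G) {K : Type*} [Field K]

theorem index_two_of_mono [Finite G] (h2 : (2 : K) ≠ 0) (ψ : (X : Subgroup G) →* Mono K) (hψ : Function.Injective ψ)
    (hnc : ¬ IsMulCommutative (X : Subgroup G)) (E : Subgroup (X : Subgroup G))
    (hEc : ∀ x ∈ E, ∀ y ∈ E, x * y = y * x) (hE2 : ∀ x ∈ E, x * x = 1) (hE8 : Nat.card E = 8) :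
    ∃ H : Subgroup G, H.index = 2 := by
  classical
  by_contra hG
  haveI : Fact (Nat.Prime 2) := ⟨Nat.prime_two⟩
  have hm1 := neg_one_ne_one h2
  -- every elementary abelian subgroup of order 8 contains `z` and `y`
  have hzy : ∀ R : Subgroup (X : Subgroup G), (∀ x ∈ R, ∀ y ∈ R, x * y = y * x) → (∀ x ∈ R, x * x = 1) →
      Nat.card R = 8 → (∃ e ∈ R, ψ e = zM) ∧ (∃ e ∈ R, ψ e = yM) := by
    intro R hc h2' h8
    obtain ⟨hz, hy⟩ := exists_zM_yM h2 (Q := R.map ψ)
      (by rintro _ ⟨a, ha, rfl⟩ _ ⟨b, hb, rfl⟩; rw [← map_mul, ← map_mul, hc a ha b hb])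
      (by rintro _ ⟨a, ha, rfl⟩; rw [← map_mul, h2' a ha, map_one])
      (by rw [← h8]; exact Nat.card_congr (R.equivMapOfInjective ψ hψ).toEquiv.symm)
    exact ⟨hz, hy⟩
  obtain ⟨⟨z0, -, hz0⟩, ⟨y0, -, hy0⟩⟩ := hzy E hEc hE2 hE8
  set a0 := z0 * y0 with ha0def
  have ha0 : ψ a0 = zM * yM := by rw [ha0def, map_mul, hz0, hy0]
  have hAz : IsA (ψ z0) := Or.inr (Or.inr (Or.inl hz0))
  have hAy : IsA (ψ y0) := Or.inr (Or.inl hy0)
  have hAa : IsA (ψ a0) := Or.inr (Or.inr (Or.inr ha0))
  have hAof : ∀ x, IsA (ψ x) → x = 1 ∨ x = y0 ∨ x = z0 ∨ x = a0 := by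
    intro x hx
    rcases hx with h | h | h | h
    · exact Or.inl (hψ (by rw [h, map_one]))
    · exact Or.inr (Or.inl (hψ (by rw [h, hy0])))
    · exact Or.inr (Or.inr (Or.inl (hψ (by rw [h, hz0]))))
    · exact Or.inr (Or.inr (Or.inr (hψ (by rw [h, ha0]))))
  have hAcomm : ∀ x w, IsA (ψ x) → x * w = w * x := fun x w hx =>
    hψ (by rw [map_mul, map_mul, hx.comm])
  have hAsq : ∀ x, IsA (ψ x) → x * x = 1 := fun x hx => hψ (by rw [map_mul, hx.sq, map_one])
  have hy0ne : y0 ≠ 1 := fun h => hm1 (by simpa [h, yM] using congrArg Mono.a hy0.symm)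
  have hchiy : (ψ y0).c = 1 := by rw [hy0]; rfl
  have hchiz : (ψ z0).c = -1 := by rw [hz0]; rfl
  have hchia : (ψ a0).c = -1 := by rw [ha0]; simp [zM, yM]
  have hdy : delta (ψ y0) = 1 := by rw [hy0]; simp [yM]
  have hdz : delta (ψ z0) = -1 := by rw [hz0]; simp [zM]
  have hda : delta (ψ a0) = -1 := by rw [ha0def, map_mul, map_mul, hdz, hdy, mul_one]
  have hzne : z0 ≠ a0 := fun h => hy0ne (by simpa [ha0def] using h)
  -- elements inside and outside the diagonal group
  obtain ⟨w, hw⟩ : ∃ w, (ψ w).s = true := by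
    by_contra h
    simp only [not_exists, Bool.not_eq_true] at h
    refine hnc ⟨⟨fun x y => hψ ?_⟩⟩
    rw [map_mul, map_mul]
    ext <;> simp [h x, h y, mul_comm]
  obtain ⟨m0, hm0s, hm0⟩ : ∃ m, (ψ m).s = false ∧ (ψ m).a ≠ (ψ m).b := by
    by_contra h
    simp only [not_exists, not_and, not_not] at h
    have hdiag : ∀ x v, (ψ x).s = false → x * v = v * x := fun x v hx => hψ (by
      rw [map_mul, map_mul]
      cases hv : (ψ v).s <;> ext <;> simp [hx, hv, h x hx, mul_comm])
    refine hnc ⟨⟨fun x y => ?_⟩⟩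
    cases hx : (ψ x).s
    · exact hdiag x y hx
    cases hy : (ψ y).s
    · exact (hdiag y x hy).symm
    have h1 := hdiag (x * y⁻¹) y (by simp [hx, hy])
    calc x * y = x * y⁻¹ * y * y := by group
      _ = y * (x * y⁻¹) * y := by rw [h1]
      _ = y * x := by group
  have hcentral : ∀ x, x * x = 1 → (∀ v, x * v = v * x) → IsA (ψ x) := by
    intro x hx hc
    have hsq : ψ x * ψ x = 1 := by rw [← map_mul, hx, map_one]
    cases hs : (ψ x).s
    · refine isA_of_diag hs hsq ?_
      have h := congrArg (fun e => (ψ e).a) (hc w)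
      simp only [map_mul, mul_a, hs, hw, cond_false, cond_true] at h
      rw [mul_comm] at h
      exact mul_left_cancel h
    · exfalso
      have h := congrArg (fun e => (ψ e).a) (hc m0)
      simp only [map_mul, mul_a, hs, hm0s, cond_false, cond_true] at h
      rw [mul_comm] at h
      exact hm0 (mul_right_cancel h).symm
  obtain ⟨m1, hm1s, hm1ab⟩ : ∃ m, (ψ m).s = false ∧ (ψ m).a = -(ψ m).b := by
    set u := (ψ m0).a * (ψ m0).b⁻¹ with hu
    obtain ⟨k, hk⟩ := X.2.exists_card_eq
    have hu1 : u ^ 2 ^ k = 1 := by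
      obtain ⟨-, ha, hb⟩ := pow_diag hm0s (2 ^ k)
      have h1 : m0 ^ 2 ^ k = 1 := by rw [← hk]; exact pow_card_eq_one'
      rw [← map_pow, h1, map_one] at ha hb
      rw [hu, mul_pow, inv_pow, ← ha, ← hb, one_a, one_b, inv_one, one_mul]
    obtain ⟨i, -, hi⟩ := (Nat.dvd_prime_pow Nat.prime_two).mp (orderOf_dvd_of_pow_eq_one hu1)
    rcases i with _ | i
    · exact absurd (mul_inv_eq_one.mp (orderOf_eq_one_iff.mp hi)) hm0
    obtain ⟨hs, ha, hb⟩ := pow_diag hm0s (2 ^ i)
    refine ⟨m0 ^ 2 ^ i, by rw [map_pow, hs], ?_⟩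
    have hne : u ^ 2 ^ i ≠ 1 := fun h => by
      have := Nat.le_of_dvd (by positivity) (orderOf_dvd_of_pow_eq_one h)
      rw [hi, pow_succ] at this
      have := Nat.two_pow_pos i
      omega
    have hsq : u ^ 2 ^ i * u ^ 2 ^ i = 1 := by
      rw [← pow_add, ← two_mul, ← pow_succ', ← hi]; exact pow_orderOf_eq_one u
    have := (eq_or_eq_neg_one hsq).resolve_left hne
    rw [hu, mul_pow, inv_pow, mul_inv_eq_iff_eq_mul, neg_one_mul] at this
    rw [map_pow, ha, hb, this]
  -- `y` is a commutator
  have hycomm : y0 ∈ commutator (X : Subgroup G) := by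
    have h : y0 = ⁅w⁻¹, m1⁆ := hψ (by
      rw [commutatorElement_def, inv_inv, map_mul, map_mul, map_mul, map_inv, map_inv, hy0, mul_assoc,
        mul_assoc, ← mul_assoc (ψ m1), conj_outside hm1s hm1ab hw, ← mul_assoc, inv_mul_cancel, one_mul])
    rw [h, commutator_def]
    exact Subgroup.commutator_mem_commutator (Subgroup.mem_top _) (Subgroup.mem_top _)
  -- distinct elements of `A` are not conjugate
  have hstar : ∀ u v, IsA (ψ u) → IsA (ψ v) → GConj u v → u = v := by
    intro u v hu hv huv
    obtain ⟨g, hg⟩ := huv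
    obtain ⟨n, hn, hne⟩ := Transfer.exists_sylow_normalizer_conj_eq X {(u : G)} g
      (by
        rintro _ rfl
        exact Subgroup.mem_centralizer_iff.mpr fun x hx => (congrArg Subtype.val (hAcomm u ⟨x, hx⟩ hu)).symm)
      (by
        rintro _ rfl
        rw [hg]
        exact Subgroup.mem_centralizer_iff.mpr fun x hx => (congrArg Subtype.val (hAcomm v ⟨x, hx⟩ hv)).symm)
    replace hne := (hne _ rfl).trans hg
    replace hn : ∀ x : G, x ∈ (X : Subgroup G) ↔ n * x * n⁻¹ ∈ (X : Subgroup G) :=
      Subgroup.mem_normalizer_iff.mp hn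
    let θ : ↥(X : Subgroup G) → ↥(X : Subgroup G) := fun x => ⟨n * x * n⁻¹, (hn x).mp x.2⟩
    have hθmul : ∀ a b, θ (a * b) = θ a * θ b := fun a b => Subtype.ext (by
      show n * ((a : G) * b) * n⁻¹ = n * a * n⁻¹ * (n * b * n⁻¹)
      group)
    have hθinj : Function.Injective θ := fun a b h => Subtype.ext (by
      simpa [θ] using congrArg Subtype.val h)
    have hθsurj : Function.Surjective θ := Finite.surjective_of_injective hθinj
    have hθone : θ 1 = 1 := Subtype.ext (by simp [θ])
    have hθA : ∀ a, IsA (ψ a) → IsA (ψ (θ a)) := fun a ha =>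
      hcentral _ (by rw [← hθmul, hAsq a ha, hθone]) fun b => by
        obtain ⟨b', rfl⟩ := hθsurj b
        rw [← hθmul, ← hθmul, hAcomm a b' ha]
    have hθy : θ y0 = y0 := by
      have hmem : θ y0 ∈ commutator (X : Subgroup G) := by
        have : (commutator (X : Subgroup G)).map (MonoidHom.mk' θ hθmul) ≤ commutator (X : Subgroup G) := by
          rw [commutator_def, Subgroup.map_commutator]
          exact Subgroup.commutator_mono le_top le_top
        exact this ⟨y0, hycomm, rfl⟩
      have hc : (ψ (θ y0)).c = 1 :=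
        Abelianization.commutator_subset_ker (chi.comp ψ) hmem
      rcases hAof _ (hθA y0 hAy) with h | h | h | h
      · exact absurd (hθinj (h.trans hθone.symm)) hy0ne
      · exact h
      · exact absurd (hchiz.symm.trans (h ▸ hc)) hm1
      · exact absurd (hchia.symm.trans (h ▸ hc)) hm1
    have hθz : θ z0 = z0 := by
      rcases hAof _ (hθA z0 hAz) with h | h | h | h
      · exact absurd (hθinj (h.trans hθone.symm)) fun h' => hm1 (by
          simpa [h', zM] using congrArg Mono.a hz0.symm)
      · exact absurd (hθinj (h.trans hθy.symm)) fun h' => hm1 (by rw [← hchiz, h', hchiy])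
      · exact h
      exfalso
      have h2θ : θ (θ z0) = z0 := by
        rw [h, ha0def, hθmul, hθy, h, ha0def, mul_assoc, hAsq y0 hAy, mul_one]
      have hc2 : Commute (n ^ 2) (z0 : G) := by
        have : n * (n * (z0 : G) * n⁻¹) * n⁻¹ = (z0 : G) := congrArg Subtype.val h2θ
        rw [pow_two, Commute, SemiconjBy]
        calc n * n * (z0 : G) = n * (n * (z0 : G) * n⁻¹) * n⁻¹ * (n * n) := by group
          _ = (z0 : G) * (n * n) := by rw [this]
      obtain ⟨e, m, hmodd, hm⟩ := Nat.exists_eq_two_pow_mul_odd (orderOf_pos n).ne'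
      have hnm : n ^ m ∈ (X : Subgroup G) := by
        have hp : IsPGroup 2 (Subgroup.zpowers (n ^ m)) := by
          refine IsPGroup.of_card (n := e) ?_
          rw [Nat.card_zpowers, orderOf_pow_of_dvd hmodd.pos.ne' (hm ▸ dvd_mul_left m _), hm,
            Nat.mul_div_cancel _ hmodd.pos]
        have hle : n ^ m ∈ Subgroup.zpowers (n ^ m) ⊓ Subgroup.normalizer ((X : Subgroup G) : Set G) :=
          ⟨Subgroup.mem_zpowers _, pow_mem (Subgroup.mem_normalizer_iff.mpr hn) m⟩
        exact (hp.inf_normalizer_sylow X ▸ hle).2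
      obtain ⟨j, rfl⟩ := hmodd
      have hcm : (n ^ (2 * j + 1)) * (z0 : G) = (z0 : G) * n ^ (2 * j + 1) :=
        (congrArg Subtype.val (hAcomm z0 ⟨_, hnm⟩ hAz)).symm
      have hc1 : n * (z0 : G) = (z0 : G) * n := by
        have hcj : Commute ((n ^ 2) ^ j) (z0 : G) := hc2.pow_left j
        rw [pow_succ, pow_mul] at hcm
        apply mul_left_cancel (a := (n ^ 2) ^ j)
        rw [← mul_assoc, hcm, ← mul_assoc, ← mul_assoc, hcj.eq]
      refine hzne ((Subtype.ext ?_ : θ z0 = z0).symm.trans h)
      show n * (z0 : G) * n⁻¹ = (z0 : G)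
      rw [hc1, mul_inv_cancel_right]
    have hfix : θ u = u := by
      rcases hAof u hu with rfl | rfl | rfl | rfl
      · exact hθone
      · exact hθy
      · exact hθz
      · rw [ha0def, hθmul, hθz, hθy]
    rw [← hfix]
    exact Subtype.ext hne
  -- a non-central involution is conjugate to its product with `y`
  have hconjy : ∀ s, s * s = 1 → ¬ IsA (ψ s) → GConj s (s * y0) := by
    intro s hs hsA
    cases hss : (ψ s).s
    · refine (?_ : w * s * w⁻¹ = s * y0) ▸ GConj.of_inner w s
      apply hψ
      rw [map_mul, map_mul, map_mul, map_inv, hy0,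
        conj_diag hw hss (b_eq_neg_a hss (by rw [← map_mul, hs, map_one]) hsA)]
    · refine (?_ : m1 * s * m1⁻¹ = s * y0) ▸ GConj.of_inner m1 s
      apply hψ
      rw [map_mul, map_mul, map_mul, map_inv, hy0, conj_outside hm1s hm1ab hss]
  -- the key lemma
  have hkey : ∀ s c, s * s = 1 → ¬ IsA (ψ s) → (c = z0 ∨ c = a0) → GConj c s → GConj y0 (s * (c * y0)) := by
    intro s c hs hsA hc hcs
    have hcA : IsA (ψ c) := by rcases hc with rfl | rfl <;> assumption
    have hdA : IsA (ψ (c * y0)) := by rw [map_mul]; exact hcA.mul hAy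
    let Es : Subgroup (X : Subgroup G) :=
      { carrier := {x | IsA (ψ x) ∨ IsA (ψ (s * x))}
        one_mem' := Or.inl (by rw [map_one]; exact Or.inl rfl)
        mul_mem' := by
          rintro a b (ha | ha) (hb | hb)
          · exact Or.inl (by rw [map_mul]; exact ha.mul hb)
          · refine Or.inr ?_
            rw [← mul_assoc, ← hAcomm a s ha, mul_assoc, map_mul]; exact ha.mul hb
          · refine Or.inr ?_
            rw [← mul_assoc, map_mul]; exact ha.mul hb
          · refine Or.inl ?_
            have : a * b = s * a * (s * b) := by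
              rw [hAcomm _ (s * b) ha]
              calc a * b = s * s * (a * b) := by rw [hs, one_mul]
                _ = s * (s * a * b) := by group
                _ = s * (b * (s * a)) := by rw [hAcomm _ b ha]
                _ = s * b * (s * a) := by group
            rw [this, map_mul]
            exact ha.mul hb
        inv_mem' := by
          rintro a (ha | ha)
          · rw [inv_eq_of_mul_eq_one_right (hAsq a ha)]; exact Or.inl ha
          · refine Or.inr ?_
            have h1 : s * a * (s * a) = 1 := hAsq _ ha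
            have h2 : a * s = s * a := by
              have h3 := hAcomm (s * a) s ha
              rw [mul_assoc] at h3
              exact mul_left_cancel h3
            have : s * a⁻¹ = s * a := by
              rw [inv_eq_of_mul_eq_one_right (show a * a = 1 from ?_)]
              calc a * a = s * s * (a * a) := by rw [hs, one_mul]
                _ = s * (a * s) * a := by rw [h2]; group
                _ = 1 := by rw [← h1]; group
            rw [this]; exact ha }
    have hEsc : ∀ a ∈ Es, ∀ b ∈ Es, a * b = b * a := by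
      have hform : ∀ a ∈ Es, IsA (ψ a) ∨ ∃ α, IsA (ψ α) ∧ a = s * α := by
        rintro a (ha | ha)
        · exact Or.inl ha
        · exact Or.inr ⟨s * a, ha, by rw [← mul_assoc, hs, one_mul]⟩
      intro a ha b hb
      rcases hform a ha with ha | ⟨α, hα, rfl⟩
      · exact hAcomm a b ha
      rcases hform b hb with hb | ⟨β, hβ, rfl⟩
      · exact (hAcomm b _ hb).symm
      calc s * α * (s * β) = s * (α * (s * β)) := by group
        _ = s * (s * β * α) := by rw [hAcomm α (s * β) hα]
        _ = s * s * (β * α) := by group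
        _ = s * s * (α * β) := by rw [hAcomm β α hβ]
        _ = s * (s * α) * β := by group
        _ = s * (α * s) * β := by rw [hAcomm α s hα]
        _ = s * α * (s * β) := by group
        _ = s * (α * s) * β := by group
        _ = s * β * (s * α) := by
          rw [hAcomm α s hα]
          calc s * (s * α) * β = s * s * (α * β) := by group
            _ = s * s * (β * α) := by rw [hAcomm α β hα]
            _ = s * (s * β) * α := by group
            _ = s * (β * s) * α := by rw [hAcomm β s hβ]
            _ = s * β * (s * α) := by group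
    have hEs2 : ∀ a ∈ Es, a * a = 1 := by
      rintro a (ha | ha)
      · exact hAsq a ha
      · have h := hAcomm (s * a) s ha
        rw [mul_assoc] at h
        have h2 := mul_left_cancel h
        have h1 := hAsq _ ha
        calc a * a = s * s * (a * a) := by rw [hs, one_mul]
          _ = s * (s * a) * a := by group
          _ = s * (a * s) * a := by rw [h2]
          _ = 1 := by rw [← h1]; group
    have hEs8 : Nat.card Es = 8 := by
      let f : Bool × Bool × Bool → Es := fun p =>
        ⟨cond p.1 s 1 * (cond p.2.1 z0 1 * cond p.2.2 y0 1),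
          mul_mem (by cases p.1 <;> simp only [cond_false, cond_true]
                      · exact one_mem _
                      · exact Or.inr (by rw [hs, map_one]; exact Or.inl rfl))
            (mul_mem (by cases p.2.1 <;> simp only [cond_false, cond_true]
                         · exact one_mem _
                         · exact Or.inl hAz)
              (by cases p.2.2 <;> simp only [cond_false, cond_true]
                  · exact one_mem _
                  · exact Or.inl hAy))⟩
      have hsurj : Function.Surjective f := by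
        intro e
        obtain ⟨x, hx | hx⟩ := e
        · rcases hAof x hx with rfl | rfl | rfl | rfl
          · exact ⟨(false, false, false), Subtype.ext (by simp [f])⟩
          · exact ⟨(false, false, true), Subtype.ext (by simp [f])⟩
          · exact ⟨(false, true, false), Subtype.ext (by simp [f])⟩
          · exact ⟨(false, true, true), Subtype.ext (by simp [f, ha0def])⟩
        · have hx' : x = s * (s * x) := by rw [← mul_assoc, hs, one_mul]
          rcases hAof _ hx with h | h | h | h
          · exact ⟨(true, false, false), Subtype.ext (by simp only [f]; rw [hx', h]; simp)⟩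
          · exact ⟨(true, false, true), Subtype.ext (by simp only [f]; rw [hx', h]; simp)⟩
          · exact ⟨(true, true, false), Subtype.ext (by simp only [f]; rw [hx', h]; simp)⟩
          · exact ⟨(true, true, true), Subtype.ext (by simp only [f]; rw [hx', h, ha0def]; simp)⟩
      have hinj : Function.Injective f := by
        intro p q h
        have h' := congrArg Subtype.val h
        simp only [f] at h'
        obtain ⟨i, j, k⟩ := p
        obtain ⟨i', j', k'⟩ := q
        have hAjk : ∀ j k : Bool, IsA (ψ (cond j z0 1 * cond k y0 1)) := by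
          intro j k
          rw [map_mul]
          refine IsA.mul ?_ ?_
          · cases j
            · exact Or.inl (map_one ψ)
            · exact hAz
          · cases k
            · exact Or.inl (map_one ψ)
            · exact hAy
        have hi : i = i' := by
          by_contra hne
          apply hsA
          have h1 := hAjk j k
          have h1' := hAjk j' k'
          cases i <;> cases i'
          · exact absurd rfl hne
          · simp only [cond_false, cond_true, one_mul] at h'
            rw [eq_mul_inv_of_mul_eq h'.symm, map_mul]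
            exact h1.mul (by rw [inv_eq_of_mul_eq_one_right (hAsq _ h1')]; exact h1')
          · simp only [cond_false, cond_true, one_mul] at h'
            rw [eq_mul_inv_of_mul_eq h', map_mul]
            exact h1'.mul (by rw [inv_eq_of_mul_eq_one_right (hAsq _ h1)]; exact h1)
          · exact absurd rfl hne
        subst hi
        have h'' := congrArg (fun e => ((ψ e).a, (ψ e).c)) (mul_left_cancel h')
        cases j <;> cases k <;> cases j' <;> cases k' <;>
          first
            | rfl
            | (simp [hz0, hy0, zM, yM, hm1, Ne.symm hm1] at h'')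
      rw [← Nat.card_congr (Equiv.ofBijective f ⟨hinj, hsurj⟩)]
      simp
    -- a conjugating element carrying `Es` into `X`
    obtain ⟨g, hg, hgE⟩ : ∃ g : G, g * c * g⁻¹ = s ∧ ∀ e ∈ Es, g⁻¹ * (e : G) * g ∈ (X : Subgroup G) := by
      obtain ⟨g, hg⟩ := hcs
      let C := Subgroup.centralizer ({(s : G)} : Set G)
      let Q : Sylow 2 G := g • X
      have hQC : (Q : Subgroup G) ≤ C := by
        intro q hq
        rw [Subgroup.mem_centralizer_singleton_iff]
        rw [Sylow.coe_subgroup_smul] at hq
        obtain ⟨x, hx, rfl⟩ := hq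
        have hxc : x * (c : G) = (c : G) * x := (congrArg Subtype.val (hAcomm c ⟨x, hx⟩ hcA)).symm
        show g * x * g⁻¹ * (s : G) = (s : G) * (g * x * g⁻¹)
        rw [← hg]
        calc g * x * g⁻¹ * (g * c * g⁻¹) = g * (x * c) * g⁻¹ := by group
          _ = g * c * g⁻¹ * (g * x * g⁻¹) := by rw [hxc]; group
      have hEC : Es.map (X : Subgroup G).subtype ≤ C := by
        rintro _ ⟨e, he, rfl⟩
        rw [Subgroup.mem_centralizer_singleton_iff]
        exact congrArg Subtype.val (hEsc e he s (Or.inr (by rw [hs, map_one]; exact Or.inl rfl)))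
      have hEp : IsPGroup 2 ((Es.map (X : Subgroup G).subtype).subgroupOf C) :=
        ((X.2.to_le (Subgroup.map_subtype_le Es)).of_equiv (Subgroup.subgroupOfEquivOfLe hEC).symm)
      obtain ⟨T, hT⟩ := hEp.exists_le_sylow
      obtain ⟨h, hh⟩ := MulAction.exists_smul_eq C (Q.subtype hQC) T
      refine ⟨(h : G) * g, ?_, fun e he => ?_⟩
      · have hcomm := Subgroup.mem_centralizer_singleton_iff.mp h.2
        calc (h : G) * g * c * ((h : G) * g)⁻¹ = (h : G) * (g * c * g⁻¹) * (h : G)⁻¹ := by group
          _ = (h : G) * s * (h : G)⁻¹ := by rw [hg]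
          _ = s := by rw [hcomm, mul_inv_cancel_right]
      · have hmem : (⟨(e : G), hEC ⟨e, he, rfl⟩⟩ : C) ∈ (T : Subgroup C) :=
          hT (Subgroup.mem_subgroupOf.mpr ⟨e, he, rfl⟩)
        rw [← hh, Sylow.coe_subgroup_smul] at hmem
        obtain ⟨q, hq, hqe⟩ := hmem
        have hq' : (q : G) ∈ (Q : Subgroup G) := by simpa [Subgroup.mem_subgroupOf] using hq
        rw [Sylow.coe_subgroup_smul] at hq'
        obtain ⟨x, hx, hxq⟩ := hq'
        have h1 : (h : G) * (q : G) * (h : G)⁻¹ = (e : G) := congrArg Subtype.val hqe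
        have h2 : g * x * g⁻¹ = (q : G) := hxq
        have : ((h : G) * g)⁻¹ * (e : G) * ((h : G) * g) = x := by rw [← h1, ← h2]; group
        rw [this]; exact hx
    let θ : Es →* (X : Subgroup G) :=
      MonoidHom.mk' (fun e => ⟨g⁻¹ * ((e : (X : Subgroup G)) : G) * g, hgE _ e.2⟩) fun a b => Subtype.ext (by
        show g⁻¹ * (((a : (X : Subgroup G)) : G) * ((b : (X : Subgroup G)) : G)) * g =
          g⁻¹ * ((a : (X : Subgroup G)) : G) * g * (g⁻¹ * ((b : (X : Subgroup G)) : G) * g)
        group)
    have hθinj : Function.Injective θ := fun a b h => Subtype.ext (Subtype.ext (by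
      simpa [θ] using congrArg Subtype.val h))
    obtain ⟨-, ⟨-, ⟨e, rfl⟩, he⟩⟩ := hzy θ.range
      (by rintro _ ⟨a, rfl⟩ _ ⟨b, rfl⟩
          rw [← map_mul, ← map_mul, show a * b = b * a from Subtype.ext (hEsc a a.2 b b.2)])
      (by rintro _ ⟨a, rfl⟩
          rw [← map_mul, show a * a = 1 from Subtype.ext (hEs2 a a.2), map_one])
      (by rw [← hEs8]; exact Nat.card_congr (MonoidHom.ofInjective hθinj).toEquiv.symm)
    have hey : g⁻¹ * ((e : (X : Subgroup G)) : G) * g = y0 :=
      congrArg Subtype.val (hψ (he.trans hy0.symm))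
    have he1 : GConj y0 (e : (X : Subgroup G)) := ⟨g, by rw [← hey]; group⟩
    have he2 : GConj (c * y0) (s * e) := ⟨g, by
      rw [Subgroup.coe_mul, Subgroup.coe_mul, ← hg, ← hey]; group⟩
    rcases e.2 with heA | heA
    · exfalso
      have h := hstar _ _ hAy heA he1
      rw [← h] at he2
      have h' := hstar _ _ hdA hcA (he2.trans (((hconjy s hs hsA).symm).trans hcs.symm))
      exact hy0ne (by simpa using h')
    · have h := hstar _ _ hdA heA he2
      have : (e : (X : Subgroup G)) = s * (c * y0) := by rw [h, ← mul_assoc, hs, one_mul]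
      rwa [this] at he1
  -- transfer
  have hexists : ∀ c, (c = z0 ∨ c = a0) → ∀ φ : Mono K →* Kˣ, φ (ψ c) = -1 →
      ∃ s, s * s = 1 ∧ ¬ IsA (ψ s) ∧ GConj c s ∧ φ (ψ s) = 1 := by
    intro c hc φ hφ
    have hcA : IsA (ψ c) := by rcases hc with rfl | rfl <;> assumption
    by_contra hno
    simp only [not_exists, not_and] at hno
    have hcc : (c : G) * c = 1 := congrArg Subtype.val (hAsq c hcA)
    have key : ∀ (g : G) (h : g⁻¹ * (c : G) * g ∈ (X : Subgroup G)), φ (ψ ⟨_, h⟩) = -1 := by
      intro g h
      have hconj : GConj c ⟨_, h⟩ := ⟨g⁻¹, by simp⟩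
      have hss : (⟨_, h⟩ : (X : Subgroup G)) * ⟨_, h⟩ = 1 := Subtype.ext (by
        show g⁻¹ * (c : G) * g * (g⁻¹ * (c : G) * g) = 1
        calc _ = g⁻¹ * ((c : G) * c) * g := by group
          _ = 1 := by rw [hcc]; group)
      by_cases hA : IsA (ψ ⟨_, h⟩)
      · rw [← hstar _ _ hcA hA hconj]; exact hφ
      · refine (eq_or_eq_neg_one ?_).resolve_left (hno _ hss hA hconj)
        rw [← map_mul, ← map_mul, hss, map_one, map_one]
    obtain ⟨f, hf⟩ := Transfer.exists_hom_ne_one_of_conj X (φ.comp ψ) c c.2
      (by rw [MonoidHom.comp_apply, hφ]; exact hm1)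
      (fun g h => by rw [MonoidHom.comp_apply, MonoidHom.comp_apply, key g h]; exact hφ.symm)
      (fun g i hi h => by
        have hp : (c : G) ^ 2 ^ i = 1 := by
          obtain ⟨k, hk⟩ := dvd_pow_self 2 hi.ne'
          rw [hk, pow_mul, pow_two, hcc, one_pow]
        convert map_one (φ.comp ψ) using 2
        exact Subtype.ext (by rw [Subgroup.coe_mk, hp, mul_one, inv_mul_cancel]; rfl))
    exact hG (exists_index_two_of_hom f hcc hf)
  -- two related non-central involutions have the same class and character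
  have hrel : ∀ s c s' c', s * s = 1 → ¬ IsA (ψ s) → (c = z0 ∨ c = a0) → (c' = z0 ∨ c' = a0) → GConj c s →
      GConj c' s' → ∀ x, IsA (ψ (s' * (x * s * x⁻¹))) → c = c' ∧ (ψ s).c = (ψ s').c := by
    intro s c s' c' hs hsA hc hc' hcs hcs' x hx
    have hcA : IsA (ψ c) := by rcases hc with rfl | rfl <;> assumption
    have hcA' : IsA (ψ c') := by rcases hc' with rfl | rfl <;> assumption
    set t := x * s * x⁻¹ with ht
    have htt : t * t = 1 := by
      calc t * t = x * (s * s) * x⁻¹ := by rw [ht]; group
        _ = 1 := by rw [hs]; group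
    have hst : GConj s t := GConj.of_inner x s
    have htA : ¬ IsA (ψ t) := fun h => hsA (by
      have : s = t := by
        calc s = x⁻¹ * (t * x) := by rw [ht]; group
          _ = t := by rw [hAcomm t x h, inv_mul_cancel_left]
      rwa [this])
    have htchi : (ψ t).c = (ψ s).c := by simp [ht]
    obtain ⟨α, hα, rfl⟩ : ∃ α, IsA (ψ α) ∧ s' = α * t :=
      ⟨s' * t, hx, by rw [mul_assoc, htt, mul_one]⟩
    rcases hAof α hα with e | e | e | e <;> subst α
    · rw [one_mul] at hcs'
      exact ⟨hstar c c' hcA hcA' ((hcs.trans hst).trans hcs'.symm), by rw [one_mul, htchi]⟩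
    · rw [hAcomm _ t hAy] at hcs'
      refine ⟨hstar c c' hcA hcA' (((hcs.trans hst).trans (hconjy t htt htA)).trans hcs'.symm), ?_⟩
      rw [map_mul, mul_c, hchiy, one_mul, htchi]
    all_goals
      exfalso
      have hne : ∀ c'' : (X : Subgroup G), (c'' = z0 ∨ c'' = a0) → c'' ≠ y0 := by
        rintro c'' (rfl | rfl) e
        · exact hm1 (by rw [← hchiz, e, hchiy])
        · exact hm1 (by rw [← hchia, e, hchiy])
    · -- `α = z0`
      rw [hAcomm _ t hAz] at hcs'
      refine hne c' hc' (hstar y0 c' hAy hcA' (GConj.trans ?_ hcs'.symm)).symm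
      rcases hc with e | e <;> subst c
      · have h := hkey (t * y0) z0 (by
            calc t * y0 * (t * y0) = t * t * (y0 * y0) := by
                  rw [mul_assoc, ← mul_assoc y0, hAcomm y0 t hAy]; group
              _ = 1 := by rw [htt, hAsq y0 hAy, one_mul])
          (fun h' => htA (by
            have := h'.mul hAy
            rwa [← map_mul, mul_assoc, hAsq y0 hAy, mul_one] at this))
          (Or.inl rfl) ((hcs.trans hst).trans (hconjy t htt htA))
        rwa [← hAcomm y0 z0 hAy, mul_assoc t, ← mul_assoc y0 y0, hAsq y0 hAy, one_mul] at h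
      · have h := hkey t a0 htt htA (Or.inr rfl) (hcs.trans hst)
        rwa [ha0def, mul_assoc z0, hAsq y0 hAy, mul_one] at h
    · -- `α = a0`
      rw [hAcomm _ t hAa] at hcs'
      refine hne c' hc' (hstar y0 c' hAy hcA' (GConj.trans ?_ hcs'.symm)).symm
      rcases hc with e | e <;> subst c
      · exact hkey t z0 htt htA (Or.inl rfl) (hcs.trans hst)
      · have h := hkey (t * y0) a0 (by
            calc t * y0 * (t * y0) = t * t * (y0 * y0) := by
                  rw [mul_assoc, ← mul_assoc y0, hAcomm y0 t hAy]; group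
              _ = 1 := by rw [htt, hAsq y0 hAy, one_mul])
          (fun h' => htA (by
            have := h'.mul hAy
            rwa [← map_mul, mul_assoc, hAsq y0 hAy, mul_one] at this))
          (Or.inr rfl) ((hcs.trans hst).trans (hconjy t htt htA))
        rwa [← hAcomm y0 a0 hAy, mul_assoc t, ← mul_assoc y0 y0, hAsq y0 hAy, one_mul] at h
  -- the four classes
  obtain ⟨s0, s0q, s0A, s0c, s0e⟩ := hexists z0 (Or.inl rfl) chi hchiz
  obtain ⟨s1, s1q, s1A, s1c, s1e⟩ := hexists z0 (Or.inl rfl) delta hdz
  obtain ⟨s2, s2q, s2A, s2c, s2e⟩ := hexists a0 (Or.inr rfl) chi hchia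
  obtain ⟨s3, s3q, s3A, s3c, s3e⟩ := hexists a0 (Or.inr rfl) delta hda
  let S : Fin 4 → (X : Subgroup G) := ![s0, s1, s2, s3]
  let cl : Fin 4 → (X : Subgroup G) := ![z0, z0, a0, a0]
  let ep : Fin 4 → Kˣ := ![1, -1, 1, -1]
  have hS : ∀ i, S i * S i = 1 ∧ ¬ IsA (ψ (S i)) ∧ (cl i = z0 ∨ cl i = a0) ∧ GConj (cl i) (S i) ∧
      (ψ (S i)).c = ep i := by
    have hd : ∀ s, s * s = 1 → ¬ IsA (ψ s) → delta (ψ s) = 1 → (ψ s).c = -1 := fun s hs hA he => by
      rw [delta_noncentral (by rw [← map_mul, hs, map_one]) hA, chi_apply, neg_eq_iff_eq_neg] at he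
      exact he
    intro i
    fin_cases i
    · exact ⟨s0q, s0A, Or.inl rfl, s0c, s0e⟩
    · exact ⟨s1q, s1A, Or.inl rfl, s1c, hd s1 s1q s1A s1e⟩
    · exact ⟨s2q, s2A, Or.inr rfl, s2c, s2e⟩
    · exact ⟨s3q, s3A, Or.inr rfl, s3c, hd s3 s3q s3A s3e⟩
  have hdiff : ∀ i j, i ≠ j → ∀ x, ¬ IsA (ψ (S j * (x * S i * x⁻¹))) := by
    intro i j hij x hx
    obtain ⟨h1, h2', h3, h4, h5⟩ := hS i
    obtain ⟨-, -, h3', h4', h5'⟩ := hS j
    obtain ⟨hc, he⟩ := hrel _ _ _ _ h1 h2' h3 h3' h4 h4' x hx
    rw [h5, h5'] at he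
    fin_cases i <;> fin_cases j <;> first
      | exact hij rfl
      | exact hzne hc
      | exact hzne hc.symm
      | exact hm1 he
      | exact hm1 he.symm
  have hsqψ : ∀ i, ψ (S i) * ψ (S i) = 1 := fun i => by rw [← map_mul, (hS i).1, map_one]
  rcases exists_pigeon (fun i => (ψ (S i)).s) with ⟨i, j, hij, hi, hj⟩ | ⟨i, j, k, hij, hik, hjk, hi, hj, hk⟩
  · refine hdiff i j hij 1 ?_
    rw [one_mul, inv_one, mul_one, map_mul]
    exact isA_mul_of_diag hj hi (hsqψ j) (hsqψ i) (hS j).2.1 (hS i).2.1
  · let D : Subgroup (X : Subgroup G) :=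
      { carrier := {x | (ψ x).s = false ∧ (ψ x).a * (ψ x).b = 1}
        one_mem' := by simp
        mul_mem' := by
          rintro a b ⟨ha, ha'⟩ ⟨hb, hb'⟩
          exact ⟨by simp [ha, hb], by simp [ha, mul_mul_mul_comm, ha', hb']⟩
        inv_mem' := by
          rintro a ⟨ha, ha'⟩
          exact ⟨by simp [ha], by simp [ha, ← mul_inv, ha']⟩ }
    let aD : D →* Kˣ := MonoidHom.mk' (fun x => (ψ x).a) fun a b => by simp [a.2.1]
    haveI : Finite aD.range := Finite.of_surjective aD.rangeRestrict aD.rangeRestrict_surjective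
    haveI : IsCyclic aD.range := isCyclic_of_injective_ringHom
      ((Units.coeHom K).comp aD.range.subtype) (Units.val_injective.comp Subtype.val_injective)
    have hout : ∀ i, (ψ (S i)).s = true →
        (ψ (S i)).a * (ψ (S i)).b = 1 ∧ ((ψ (S i)).c = 1 ∨ (ψ (S i)).c = -1) :=
      fun i hi => sq_outside hi (hsqψ i)
    have hprod : ∀ i j, (ψ (S i)).s = true → (ψ (S j)).s = true → S j * S i ∈ D := fun i j hi hj => by
      refine ⟨by simp [hi, hj], ?_⟩
      simp only [map_mul, mul_a, mul_b, hj, cond_true]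
      rw [mul_mul_mul_comm, (hout j hj).1, mul_comm (ψ (S i)).b, (hout i hi).1, one_mul]
    have hfinal : ∀ i j, i ≠ j → (ψ (S i)).s = true → (ψ (S j)).s = true → ∀ r : aD.range,
        (r : Kˣ) = (ψ (S j)).a * (ψ (S i)).b → IsSquare r → False := by
      rintro i j hne hi hj r hr ⟨⟨q, x, hxq⟩, rfl⟩
      refine hdiff i j hne (x : (X : Subgroup G)) ?_
      have hxa : (ψ (x : (X : Subgroup G))).a = q := hxq
      obtain ⟨hxs, hxab⟩ := x.2
      have hxb : (ψ (x : (X : Subgroup G))).b⁻¹ = q := by rw [← hxa]; exact inv_eq_of_mul_eq_one_left hxab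
      obtain ⟨hia, hic⟩ := hout i hi
      obtain ⟨hja, hjc⟩ := hout j hj
      have hqq : q * q = (ψ (S j)).a * (ψ (S i)).b := hr
      have hconja : (ψ ((x : (X : Subgroup G)) * S i * (x : (X : Subgroup G))⁻¹)).a = (ψ (S j)).a := by
        simp only [map_mul, map_inv, mul_a, mul_s, inv_b, hxs, hi, cond_false, cond_true,
          Bool.false_xor, hxa, hxb]
        calc q * (ψ (S i)).a * q = q * q * (ψ (S i)).a := mul_right_comm _ _ _
          _ = (ψ (S j)).a := by rw [hqq, mul_assoc, mul_comm (ψ (S i)).b, hia, mul_one]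
      set t := (x : (X : Subgroup G)) * S i * (x : (X : Subgroup G))⁻¹ with ht
      have hts : (ψ t).s = true := by simp [ht, hxs, hi]
      have htc : (ψ t).c = (ψ (S i)).c := by simp [ht]
      have htt : ψ t * ψ t = 1 := by
        rw [← map_mul, show t * t = (x : (X : Subgroup G)) * (S i * S i) * (x : (X : Subgroup G))⁻¹ by
          rw [ht]; group, (hS i).1]
        simp
      obtain ⟨hta, -⟩ := sq_outside hts htt
      have htb : (ψ t).b = (ψ (S j)).b := by
        rw [hconja] at hta
        exact mul_left_cancel (hta.trans hja.symm)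
      refine isA_of_diag (by simp [hj, hts]) ?_ ?_
      · refine Mono.ext ?_ ?_ ?_ (by simp [hj, hts]) <;>
          simp only [map_mul, mul_a, mul_b, mul_c, mul_s, hj, hts, cond_true, cond_false, Bool.xor_self,
            htb, hconja, htc, one_a, one_b, one_c, hja, mul_comm (ψ (S j)).b, one_mul]
        rcases hic with e | e <;> rcases hjc with e' | e' <;> simp [e, e']
      · simp [hj, htb, hconja, mul_comm]
    let mk : ∀ i j, (ψ (S i)).s = true → (ψ (S j)).s = true → aD.range := fun i j hi hj =>
      ⟨(ψ (S j)).a * (ψ (S i)).b, ⟨S j * S i, hprod i j hi hj⟩, by simp [aD, hj]⟩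
    rcases exists_square (mk i j hi hj) (mk i k hi hk) with h | h | h
    · exact hfinal i j hij hi hj _ rfl h
    · exact hfinal i k hik hi hk _ rfl h
    · refine hfinal j k hjk hj hk _ ?_ h
      simp only [mk, Subgroup.coe_mul, Subgroup.coe_inv]
      obtain ⟨hja, -⟩ := hout j hj
      rw [eq_inv_of_mul_eq_one_right hja, mul_inv, mul_mul_mul_comm, inv_mul_cancel, mul_one, mul_comm]

end Cfsg.Agent.GLThreeSylow
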