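import Mathlib

/-!
# The group of monomial `3 × 3` matrices fixing the third line

`Mono K` is the group of the matrices `diag(a, b, c)` and `diag(a, b, c) · P`, `P` the transposition matrix of
the first two coordinates.

* `Mono.chi`, `Mono.delta`: the `(3,3)` entry and the determinant.
* `Mono.zM`, `Mono.yM`: the central sign elements; `Mono.IsA` their fours group.
* `Mono.exists_zM_yM`: an exponent 2 abelian set of at least 8 elements contains both.
-/

set_option autoImplicit false
set_option linter.style.haveILetI false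

namespace Cfsg.Agent.GLThreeSylow

/-- `diag(a, b, c)` for `s = false`, `diag(a, b, c) · P` for `s = true`. -/
@[ext] structure Mono (K : Type*) [Field K] where
  a : Kˣ
  b : Kˣ
  c : Kˣ
  s : Bool

namespace Mono

variable {K : Type*} [Field K]

instance : One (Mono K) := ⟨⟨1, 1, 1, false⟩⟩

instance : Mul (Mono K) :=
  ⟨fun x y => ⟨x.a * cond x.s y.b y.a, x.b * cond x.s y.a y.b, x.c * y.c, xor x.s y.s⟩⟩

instance : Inv (Mono K) :=
  ⟨fun x => ⟨cond x.s x.b⁻¹ x.a⁻¹, cond x.s x.a⁻¹ x.b⁻¹, x.c⁻¹, x.s⟩⟩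

@[simp] theorem one_a : (1 : Mono K).a = 1 := rfl
@[simp] theorem one_b : (1 : Mono K).b = 1 := rfl
@[simp] theorem one_c : (1 : Mono K).c = 1 := rfl
@[simp] theorem one_s : (1 : Mono K).s = false := rfl
@[simp] theorem mul_a (x y : Mono K) : (x * y).a = x.a * cond x.s y.b y.a := rfl
@[simp] theorem mul_b (x y : Mono K) : (x * y).b = x.b * cond x.s y.a y.b := rfl
@[simp] theorem mul_c (x y : Mono K) : (x * y).c = x.c * y.c := rfl
@[simp] theorem mul_s (x y : Mono K) : (x * y).s = xor x.s y.s := rfl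
@[simp] theorem inv_a (x : Mono K) : x⁻¹.a = cond x.s x.b⁻¹ x.a⁻¹ := rfl
@[simp] theorem inv_b (x : Mono K) : x⁻¹.b = cond x.s x.a⁻¹ x.b⁻¹ := rfl
@[simp] theorem inv_c (x : Mono K) : x⁻¹.c = x.c⁻¹ := rfl
@[simp] theorem inv_s (x : Mono K) : x⁻¹.s = x.s := rfl

instance : Group (Mono K) where
  mul_assoc := by
    rintro ⟨a, b, c, _ | _⟩ ⟨a', b', c', _ | _⟩ ⟨a'', b'', c'', _ | _⟩ <;>
      ext <;> simp [mul_assoc]
  one_mul := by
    rintro ⟨a, b, c, _ | _⟩ <;> ext <;> simp
  mul_one := by
    rintro ⟨a, b, c, _ | _⟩ <;> ext <;> simp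
  inv_mul_cancel := by
    rintro ⟨a, b, c, _ | _⟩ <;> ext <;> simp

/-- The `(3,3)` entry. -/
def chi : Mono K →* Kˣ where
  toFun := Mono.c
  map_one' := rfl
  map_mul' _ _ := rfl

/-- The determinant. -/
def delta : Mono K →* Kˣ where
  toFun x := x.a * x.b * x.c * cond x.s (-1) 1
  map_one' := by simp
  map_mul' := by
    rintro ⟨a, b, c, _ | _⟩ ⟨a', b', c', _ | _⟩ <;>
      simp [mul_comm, mul_left_comm]

@[simp] theorem chi_apply (x : Mono K) : chi x = x.c := rfl
@[simp] theorem delta_apply (x : Mono K) : delta x = x.a * x.b * x.c * cond x.s (-1) 1 := rfl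

/-- `diag(-1, -1, -1)`. -/
def zM : Mono K := ⟨-1, -1, -1, false⟩

/-- `diag(-1, -1, 1)`. -/
def yM : Mono K := ⟨-1, -1, 1, false⟩

theorem zM_comm (x : Mono K) : zM * x = x * zM := by
  obtain ⟨a, b, c, _ | _⟩ := x <;> ext <;> simp [zM, mul_comm]

theorem yM_comm (x : Mono K) : yM * x = x * yM := by
  obtain ⟨a, b, c, _ | _⟩ := x <;> ext <;> simp [yM, mul_comm]

/-- The fours group generated by `zM` and `yM`. -/
def IsA (x : Mono K) : Prop := x = 1 ∨ x = yM ∨ x = zM ∨ x = zM * yM

theorem eq_or_eq_neg_one {u : Kˣ} (h : u * u = 1) : u = 1 ∨ u = -1 := by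
  rcases mul_self_eq_one_iff.mp (show (u : K) * u = 1 by rw [← Units.val_mul, h, Units.val_one])
    with h1 | h1
  · exact Or.inl (Units.ext h1)
  · exact Or.inr (Units.ext (by simpa using h1))

theorem neg_one_ne_one (h2 : (2 : K) ≠ 0) : (-1 : Kˣ) ≠ 1 := fun h => h2 (by
  have h1 : (-1 : K) = 1 := by simpa using congrArg Units.val h
  linear_combination (-1 : K) * h1)

theorem sq_diag {x : Mono K} (hs : x.s = false) (h : x * x = 1) :
    (x.a = 1 ∨ x.a = -1) ∧ (x.b = 1 ∨ x.b = -1) ∧ (x.c = 1 ∨ x.c = -1) := by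
  have ha := congrArg Mono.a h
  have hb := congrArg Mono.b h
  have hc := congrArg Mono.c h
  simp only [mul_a, mul_b, mul_c, hs, cond_false, one_a, one_b, one_c] at ha hb hc
  exact ⟨eq_or_eq_neg_one ha, eq_or_eq_neg_one hb, eq_or_eq_neg_one hc⟩

theorem sq_outside {x : Mono K} (hs : x.s = true) (h : x * x = 1) :
    x.a * x.b = 1 ∧ (x.c = 1 ∨ x.c = -1) := by
  have ha := congrArg Mono.a h
  have hc := congrArg Mono.c h
  simp only [mul_a, mul_c, hs, cond_true, one_a, one_c] at ha hc
  exact ⟨ha, eq_or_eq_neg_one hc⟩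

theorem isA_of_diag {x : Mono K} (hs : x.s = false) (h : x * x = 1) (hab : x.a = x.b) : IsA x := by
  obtain ⟨ha, -, hc⟩ := sq_diag hs h
  rcases ha with ha | ha <;> rcases hc with hc | hc
  · exact Or.inl (by ext <;> simp [hs, ← hab, ha, hc])
  · exact Or.inr (Or.inr (Or.inr (by ext <;> simp [zM, yM, hs, ← hab, ha, hc])))
  · exact Or.inr (Or.inl (by ext <;> simp [yM, hs, ← hab, ha, hc]))
  · exact Or.inr (Or.inr (Or.inl (by ext <;> simp [zM, hs, ← hab, ha, hc])))

theorem IsA.sq {x : Mono K} (h : IsA x) : x * x = 1 := by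
  rcases h with rfl | rfl | rfl | rfl <;> ext <;> simp [zM, yM]

theorem IsA.s_eq {x : Mono K} (h : IsA x) : x.s = false := by
  rcases h with rfl | rfl | rfl | rfl <;> simp [zM, yM]

theorem IsA.ab_eq {x : Mono K} (h : IsA x) : x.a = x.b := by
  rcases h with rfl | rfl | rfl | rfl <;> simp [zM, yM]

theorem IsA.comm {x : Mono K} (h : IsA x) (w : Mono K) : x * w = w * x := by
  rcases h with rfl | rfl | rfl | rfl
  · simp
  · exact yM_comm w
  · exact zM_comm w
  · rw [mul_assoc, yM_comm w, ← mul_assoc, zM_comm w, mul_assoc]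

theorem b_eq_neg_a {x : Mono K} (hs : x.s = false) (h : x * x = 1) (hA : ¬ IsA x) : x.b = -x.a := by
  obtain ⟨ha, hb, -⟩ := sq_diag hs h
  rcases ha with ha | ha <;> rcases hb with hb | hb
  · exact absurd (isA_of_diag hs h (ha.trans hb.symm)) hA
  · rw [ha, hb]
  · rw [ha, hb, neg_neg]
  · exact absurd (isA_of_diag hs h (ha.trans hb.symm)) hA

theorem delta_noncentral {x : Mono K} (h : x * x = 1) (hA : ¬ IsA x) : delta x = -chi x := by
  cases hs : x.s
  · obtain ⟨ha, -, -⟩ := sq_diag hs h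
    rw [delta_apply, chi_apply, b_eq_neg_a hs h hA, hs, cond_false, mul_one]
    rcases ha with ha | ha <;> simp [ha]
  · rw [delta_apply, chi_apply, (sq_outside hs h).1, hs, cond_true, one_mul, mul_neg, mul_one]

/-- Two non-central diagonal involutions differ by an element of the fours group. -/
theorem isA_mul_of_diag {x y : Mono K} (hx : x.s = false) (hy : y.s = false) (h : x * x = 1)
    (h' : y * y = 1) (hA : ¬ IsA x) (hA' : ¬ IsA y) : IsA (x * y) := by
  refine isA_of_diag (by simp [hx, hy]) ?_ ?_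
  · obtain ⟨ha, hb, hc⟩ := sq_diag hx h
    obtain ⟨ha', hb', hc'⟩ := sq_diag hy h'
    ext <;> simp [hx, hy]
    · rcases ha with e | e <;> rcases ha' with e' | e' <;> simp [e, e']
    · rcases hb with e | e <;> rcases hb' with e' | e' <;> simp [e, e']
    · rcases hc with e | e <;> rcases hc' with e' | e' <;> simp [e, e']
  · simp [hx, b_eq_neg_a hx h hA, b_eq_neg_a hy h' hA']

/-- A diagonal element of ratio `-1` multiplies an element outside by `yM` on conjugation. -/
theorem conj_outside {m x : Mono K} (hm : m.s = false) (hab : m.a = -m.b) (hx : x.s = true) :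
    m * x * m⁻¹ = x * yM := by
  ext <;> simp [hm, hx, hab, yM, mul_comm]

/-- An element outside multiplies a non-central diagonal involution by `yM` on conjugation. -/
theorem conj_diag {w x : Mono K} (hw : w.s = true) (hx : x.s = false) (h : x.b = -x.a) :
    w * x * w⁻¹ = x * yM := by
  ext <;> simp [hw, hx, h, yM, mul_comm]

/-- An exponent 2 commutative group of monomial matrices of order at least 8 contains `zM` and `yM`. -/
theorem exists_zM_yM (h2 : (2 : K) ≠ 0) {Q : Subgroup (Mono K)} (hQc : ∀ x ∈ Q, ∀ y ∈ Q, x * y = y * x)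
    (hQ2 : ∀ x ∈ Q, x * x = 1) (hQ8 : Nat.card Q = 8) : zM ∈ Q ∧ yM ∈ Q := by
  classical
  haveI : Finite Q := Nat.finite_of_card_ne_zero (by omega)
  have hne := neg_one_ne_one h2
  have key : ∀ u v : Kˣ, (u = 1 ∨ u = -1) → (v = 1 ∨ v = -1) → (decide (u = 1) = decide (v = 1)) →
      u = v := by
    rintro u v (rfl | rfl) (rfl | rfl) h <;> simp_all
  by_cases hw : ∃ w ∈ Q, w.s = true
  · obtain ⟨w, hwQ, hws⟩ := hw
    let g : Q → Mono K := fun e => cond (e : Mono K).s (w * e) e
    have hg : ∀ e : Q, g e ∈ Q ∧ (g e).s = false ∧ (g e).a = (g e).b := by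
      intro e
      have h1 : g e ∈ Q ∧ (g e).s = false := by
        cases hes : (e : Mono K).s
        · simp only [g, hes, cond_false]
          exact ⟨e.2, trivial⟩
        · simp only [g, hes, cond_true]
          exact ⟨mul_mem hwQ e.2, by simp [hws, hes]⟩
      refine ⟨h1.1, h1.2, ?_⟩
      have h3 := congrArg Mono.a (hQc w hwQ (g e) h1.1)
      simp only [mul_a, hws, h1.2, cond_true, cond_false] at h3
      rw [mul_comm (g e).a] at h3
      exact (mul_left_cancel h3).symm
    let f : Q → Bool × Bool × Bool := fun e =>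
      ((e : Mono K).s, decide ((g e).a = 1), decide ((g e).c = 1))
    have hf : Function.Injective f := by
      intro e e' h
      simp only [f, Prod.mk.injEq] at h
      obtain ⟨hs, ha, hc⟩ := h
      obtain ⟨hm, hgs, hgab⟩ := hg e
      obtain ⟨hm', hgs', hgab'⟩ := hg e'
      obtain ⟨h1, -, h3⟩ := sq_diag hgs (hQ2 _ hm)
      obtain ⟨h1', -, h3'⟩ := sq_diag hgs' (hQ2 _ hm')
      have he : g e = g e' := by
        refine Mono.ext (key _ _ h1 h1' ha) ?_ (key _ _ h3 h3' hc) (hgs.trans hgs'.symm)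
        rw [← hgab, ← hgab']
        exact key _ _ h1 h1' ha
      cases hes : (e : Mono K).s
      · exact Subtype.ext (by simpa [g, hes, hs ▸ hes] using he)
      · exact Subtype.ext (by simpa [g, hes, hs ▸ hes] using he)
    have hsurj : Function.Surjective f :=
      ((Nat.bijective_iff_injective_and_card f).mpr ⟨hf, by rw [hQ8]; simp⟩).2
    refine ⟨?_, ?_⟩
    · obtain ⟨e, he⟩ := hsurj (false, false, false)
      simp only [f, Prod.mk.injEq, decide_eq_false_iff_not] at he
      obtain ⟨hm, hgs, hgab⟩ := hg e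
      obtain ⟨h1, -, h3⟩ := sq_diag hgs (hQ2 _ hm)
      convert hm using 1
      ext <;> simp [zM, hgs, ← hgab, h1.resolve_left he.2.1, h3.resolve_left he.2.2]
    · obtain ⟨e, he⟩ := hsurj (false, false, true)
      simp only [f, Prod.mk.injEq, decide_eq_false_iff_not, decide_eq_true_eq] at he
      obtain ⟨hm, hgs, hgab⟩ := hg e
      obtain ⟨h1, -, -⟩ := sq_diag hgs (hQ2 _ hm)
      convert hm using 1
      ext <;> simp [yM, hgs, ← hgab, h1.resolve_left he.2.1, he.2.2]
  · simp only [not_exists, not_and, Bool.not_eq_true] at hw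
    let f : Q → Bool × Bool × Bool := fun e =>
      (decide ((e : Mono K).a = 1), decide ((e : Mono K).b = 1), decide ((e : Mono K).c = 1))
    have hf : Function.Injective f := by
      intro e e' h
      simp only [f, Prod.mk.injEq] at h
      obtain ⟨h1, h2', h3⟩ := sq_diag (hw _ e.2) (hQ2 _ e.2)
      obtain ⟨h1', h2'', h3'⟩ := sq_diag (hw _ e'.2) (hQ2 _ e'.2)
      exact Subtype.ext (Mono.ext (key _ _ h1 h1' h.1) (key _ _ h2' h2'' h.2.1) (key _ _ h3 h3' h.2.2)
        ((hw _ e.2).trans (hw _ e'.2).symm))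
    have hsurj : Function.Surjective f :=
      ((Nat.bijective_iff_injective_and_card f).mpr ⟨hf, by rw [hQ8]; simp⟩).2
    refine ⟨?_, ?_⟩
    · obtain ⟨e, he⟩ := hsurj (false, false, false)
      simp only [f, Prod.mk.injEq, decide_eq_false_iff_not] at he
      obtain ⟨h1, hb, h3⟩ := sq_diag (hw _ e.2) (hQ2 _ e.2)
      convert e.2 using 1
      ext <;> simp [zM, hw _ e.2, h1.resolve_left he.1, hb.resolve_left he.2.1, h3.resolve_left he.2.2]
    · obtain ⟨e, he⟩ := hsurj (false, false, true)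
      simp only [f, Prod.mk.injEq, decide_eq_false_iff_not, decide_eq_true_eq] at he
      obtain ⟨h1, hb, -⟩ := sq_diag (hw _ e.2) (hQ2 _ e.2)
      convert e.2 using 1
      ext <;> simp [yM, hw _ e.2, h1.resolve_left he.1, hb.resolve_left he.2.1, he.2.2]

end Mono

end Cfsg.Agent.GLThreeSylow
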