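import Cfsg.Agent.Lib.GLThreeSylow.Mono
import Cfsg.Agent.Lib.FixedDim.Weights
import Cfsg.Agent.Lib.PGroup.SCN

/-!
# A non-abelian 2-group of degree 3 is monomial with fixed line

`exists_mono`: a non-commutative finite 2-group with a faithful representation of degree 3 over an algebraically
closed field of characteristic not 2 embeds into `Mono`.
-/

set_option autoImplicit false
set_option linter.style.haveILetI false

namespace Cfsg.Agent.GLThreeSylow

open FixedDim
open scoped IsMulCommutative

variable {K : Type*} [Field K] {U : Type*} [AddCommGroup U] [Module K U]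

namespace Mono

/-- The image position of the `i`-th basis vector. -/
def pos (x : Mono K) : Equiv.Perm (Fin 3) := cond x.s (Equiv.swap 0 1) 1

/-- The coefficient at position `i`. -/
def coef (x : Mono K) (i : Fin 3) : K := ![(x.a : K), x.b, x.c] i

theorem pos_mul (x y : Mono K) : pos (x * y) = pos x * pos y := by
  obtain ⟨a, b, c, _ | _⟩ := x <;> obtain ⟨a', b', c', _ | _⟩ := y <;>
    simp [pos, Equiv.swap_mul_self]

theorem coef_mul (x y : Mono K) (j : Fin 3) :
    coef (x * y) j = coef x j * coef y ((pos x)⁻¹ j) := by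
  obtain ⟨a, b, c, _ | _⟩ := x <;> fin_cases j <;>
    simp [coef, pos, Equiv.swap_apply_of_ne_of_ne]

theorem eq_of_pos_coef {x y : Mono K} (hp : pos x = pos y) (hc : ∀ j, coef x j = coef y j) : x = y := by
  refine Mono.ext (Units.ext (by simpa [coef] using hc 0)) (Units.ext (by simpa [coef] using hc 1))
    (Units.ext (by simpa [coef] using hc 2)) ?_
  cases hx : x.s <;> cases hy : y.s <;> first | rfl | skip
  all_goals
    exfalso
    have h := congrArg (fun e : Equiv.Perm (Fin 3) => e 0) hp
    simp [pos, hx, hy] at h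

end Mono

theorem exists_relabel (τ : Equiv.Perm (Fin 3)) (h : τ * τ = 1) (h1 : τ ≠ 1) :
    ∃ e : Equiv.Perm (Fin 3), τ * e = e * Equiv.swap 0 1 := by
  revert τ; decide

theorem exists_third {i j : Fin 3} (h : i ≠ j) :
    ∃ k, k ≠ i ∧ k ≠ j ∧ ∀ l, l = i ∨ l = j ∨ l = k := by
  revert i j; decide

variable {P : Type*} [Group P] (ρ : P →* Module.End K U)

/-- `x` moves the vectors of `v` as the monomial matrix `μ` moves the standard basis. -/
def Rep (v : Fin 3 → U) (x : P) (μ : Mono K) : Prop :=
  ∀ i, ρ x (v i) = μ.coef (μ.pos i) • v (μ.pos i)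

theorem Rep.unique {v : Fin 3 → U} (hv : LinearIndependent K v) {x : P} {μ ν : Mono K}
    (h : Rep ρ v x μ) (h' : Rep ρ v x ν) : μ = ν := by
  have hcoef : ∀ i, μ.coef i ≠ 0 := by
    intro i; fin_cases i <;> simp [Mono.coef]
  have hp : μ.pos = ν.pos := Equiv.ext fun i => by
    by_contra hne
    have e := (h i).symm.trans (h' i)
    have := linearIndependent_iff'.mp hv {μ.pos i, ν.pos i}
      (fun j => if j = μ.pos i then μ.coef (μ.pos i) else -ν.coef (ν.pos i))
      (by rw [Finset.sum_pair hne, if_pos rfl, if_neg (Ne.symm hne), e, neg_smul, add_neg_cancel])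
      (μ.pos i) (by simp)
    simp [hcoef] at this
  refine Mono.eq_of_pos_coef hp fun j => ?_
  have e := (h (μ.pos⁻¹ j)).symm.trans (h' (μ.pos⁻¹ j))
  rw [← hp, Equiv.Perm.coe_inv, Equiv.apply_symm_apply] at e
  exact smul_left_injective K (hv.ne_zero j) e

theorem Rep.mul {v : Fin 3 → U} {x y : P} {μ ν : Mono K} (h : Rep ρ v x μ) (h' : Rep ρ v y ν) :
    Rep ρ v (x * y) (μ * ν) := by
  intro i
  rw [map_mul, Module.End.mul_apply, h' i, map_smul, h, smul_smul, Mono.pos_mul, Mono.coef_mul,
    Equiv.Perm.mul_apply, Equiv.Perm.coe_inv, Equiv.symm_apply_apply, mul_comm]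

/-- The weights of the maximal abelian normal subgroup, repeated weights force commutativity. -/
theorem exists_mono_basis [Finite P] [IsAlgClosed K] [FiniteDimensional K U] (hU : Module.finrank K U = 3)
    (h2 : (2 : K) ≠ 0) (hP : IsPGroup 2 P) (hinj : Function.Injective ρ) (hnc : ¬ IsMulCommutative P) :
    ∃ v : Module.Basis (Fin 3) K U, ∀ x, ∃ μ : Mono K, Rep ρ v x μ := by
  classical
  haveI : Fact (Nat.Prime 2) := ⟨Nat.prime_two⟩
  obtain ⟨A, hAn, hAc, hmax⟩ := PGroup.exists_maximal_abelian_normal (G := P)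
  haveI := hAn
  haveI := hAc
  have hcent := PGroup.centralizer_eq_of_maximal_abelian_normal hP hAc hmax
  have hA : (Nat.card A : K) ≠ 0 := by
    obtain ⟨n, hn⟩ := IsPGroup.iff_card.mp (hP.to_subgroup A)
    rw [hn, Nat.cast_pow]
    exact pow_ne_zero _ (by exact_mod_cast h2)
  haveI := (card_chars (A := A) (K := K) hA).1
  haveI := Fintype.ofFinite (A →* Kˣ)
  set σ := ρ.comp A.subtype with hσ
  have hspan : Submodule.span K (⋃ χ : A →* Kˣ, (wsp σ χ : Set U)) = ⊤ := by
    refine eq_top_iff.mpr fun u _ => ?_
    have h : u = (Nat.card A : K)⁻¹ • ∑ χ : A →* Kˣ, wproj σ χ u := by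
      rw [← LinearMap.sum_apply, sum_wproj σ hA, LinearMap.smul_apply, Module.End.one_apply,
        smul_smul, inv_mul_cancel₀ hA, one_smul]
    rw [h]
    exact Submodule.smul_mem _ _ (Submodule.sum_mem _ fun χ _ =>
      Submodule.subset_span (Set.mem_iUnion_of_mem χ (wproj_mem σ χ u)))
  obtain ⟨b, hb, hbspan, hbli⟩ := exists_linearIndependent K (⋃ χ : A →* Kˣ, (wsp σ χ : Set U))
  rw [hspan] at hbspan
  let B0 := Module.Basis.mk hbli (by rw [Subtype.range_coe, hbspan])
  haveI : Fintype b := FiniteDimensional.fintypeBasisIndex B0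
  have hcard : Fintype.card b = 3 := by rw [← Module.finrank_eq_card_basis B0, hU]
  let B := B0.reindex (Fintype.equivFinOfCardEq hcard)
  have hw : ∀ i, ∃ χ : A →* Kˣ, B i ∈ wsp σ χ := by
    intro i
    obtain ⟨χ, hχ⟩ := Set.mem_iUnion.mp (hb ((Fintype.equivFinOfCardEq hcard).symm i).2)
    exact ⟨χ, by simpa [B, B0] using hχ⟩
  choose χ hχ using hw
  -- the coefficient of a weight vector at another weight vanishes
  have hcoord : ∀ (ψ : A →* Kˣ) (u : U), u ∈ wsp σ ψ → ∀ i, χ i ≠ ψ → B.repr u i = 0 := by
    intro ψ u hu i hi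
    by_contra hne
    refine hi (MonoidHom.ext fun a => Units.ext ?_)
    have h1 : σ a u = ∑ j, (B.repr u j * (χ j a : K)) • B j := by
      conv_lhs => rw [← B.sum_repr u]
      rw [map_sum]
      exact Finset.sum_congr rfl fun j _ => by rw [map_smul, hχ j a, smul_smul]
    rw [hu a] at h1
    have h2' := congrArg (fun w => B.repr w i) h1
    simp only [map_smul, Finsupp.smul_apply, smul_eq_mul, B.repr_sum_self] at h2'
    rw [mul_comm (ψ a : K)] at h2'
    exact (mul_left_cancel₀ hne h2').symm
  have htw : ∀ x i, ρ x (B i) ∈ wsp σ (tw A x (χ i)) := fun x i => map_wsp ρ A x (hχ i)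
  have hne : ∀ x i, ρ x (B i) ≠ 0 := fun x i h =>
    B.ne_zero i (rho_injective ρ x (h.trans (map_zero (ρ x)).symm))
  have hweight : ∀ x i, ∃ j, χ j = tw A x (χ i) := by
    intro x i
    by_contra hno
    simp only [not_exists] at hno
    refine hne x i (B.repr.injective ?_)
    rw [map_zero]
    exact Finsupp.ext fun j => hcoord _ _ (htw x i) j (hno j)
  have hcentral : ∀ x, (∀ i, tw A x (χ i) = χ i) → x ∈ A := by
    intro x hx
    rw [← hcent, Subgroup.mem_centralizer_iff]
    intro a ha
    refine hinj (B.ext fun i => ?_)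
    rw [map_mul, map_mul, Module.End.mul_apply, Module.End.mul_apply,
      show ρ a (B i) = (χ i ⟨a, ha⟩ : K) • B i from hχ i ⟨a, ha⟩, map_smul,
      show ρ a (ρ x (B i)) = _ from htw x i ⟨a, ha⟩, hx i]
  have htwinj : ∀ x (φ ψ : A →* Kˣ), tw A x φ = tw A x ψ → φ = ψ := by
    intro x φ ψ h
    letI := charAction (K := K) A
    exact MulAction.injective x h
  have hnotall : ∃ x, x ∉ A := by
    by_contra h
    simp only [not_exists, not_not] at h
    exact hnc ⟨⟨fun x y => congrArg Subtype.val (hAc.is_comm.comm (⟨x, h x⟩ : A) ⟨y, h y⟩)⟩⟩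
  -- the three weights are distinct
  have hχinj : Function.Injective χ := by
    intro i j hij
    by_contra hne'
    obtain ⟨x, hx⟩ := hnotall
    refine hx (hcentral x ?_)
    obtain ⟨k, -, -, hall⟩ := exists_third hne'
    by_cases hk : χ k = χ i
    · have hsame : ∀ l, χ l = χ i := by
        intro l
        rcases hall l with rfl | rfl | rfl
        · rfl
        · exact hij.symm
        · exact hk
      intro l
      obtain ⟨m, hm⟩ := hweight x l
      rw [← hm, hsame m, hsame l]
    · have hi : tw A x (χ i) = χ i := by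
        obtain ⟨m, hm⟩ := hweight x i
        rcases hall m with rfl | rfl | rfl
        · exact hm.symm
        · rw [← hm]; exact hij.symm
        · exfalso
          have hline : ∀ l, l = i ∨ l = j → ρ x (B l) = B.repr (ρ x (B l)) m • B m := by
            intro l hl
            refine ((B.sum_repr _).symm.trans
              (Finset.sum_eq_single m (fun n _ hn => ?_) (by simp)))
            have hl' : tw A x (χ l) = χ m := by
              rcases hl with rfl | rfl
              · exact hm.symm
              · rw [← hij]; exact hm.symm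
            have hn' : χ n = χ i := by
              rcases hall n with rfl | rfl | rfl
              · rfl
              · exact hij.symm
              · exact absurd rfl hn
            rw [hcoord _ _ (htw x l) n (by rw [hl', hn']; exact Ne.symm hk), zero_smul]
          obtain ⟨ci, hci⟩ : ∃ c, ρ x (B i) = c • B m := ⟨_, hline i (Or.inl rfl)⟩
          obtain ⟨cj, hcj⟩ : ∃ c, ρ x (B j) = c • B m := ⟨_, hline j (Or.inr rfl)⟩
          have hdep : ρ x (cj • B i) = ρ x (ci • B j) := by
            rw [map_smul, map_smul, hci, hcj, smul_smul, smul_smul, mul_comm]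
          have hzero : cj = 0 := by
            have := congrArg (fun w => B.repr w i) (rho_injective ρ x hdep)
            simpa [Finsupp.single_apply, Ne.symm hne'] using this
          exact hne x j (by rw [hcj, hzero, zero_smul])
      intro l
      rcases hall l with rfl | rfl | rfl
      · exact hi
      · rw [← hij]; exact hi
      · obtain ⟨m, hm⟩ := hweight x l
        rcases hall m with rfl | rfl | rfl
        · exact absurd (htwinj x _ _ (hm.symm.trans hi.symm)) hk
        · exact absurd (htwinj x _ _ (hm.symm.trans (hij.symm.trans hi.symm))) hk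
        · exact hm.symm
  -- the permutation of the three lines
  choose π hπ using hweight
  have hπmul : ∀ x y i, π (x * y) i = π x (π y i) := by
    intro x y i
    apply hχinj
    rw [hπ, hπ, hπ]
    letI := charAction (K := K) A
    exact mul_smul x y (χ i)
  have hπone : ∀ i, π 1 i = i := by
    intro i
    apply hχinj
    rw [hπ]
    letI := charAction (K := K) A
    exact one_smul P (χ i)
  let perm : P →* Equiv.Perm (Fin 3) :=
    { toFun := fun x =>
        { toFun := π x
          invFun := π x⁻¹
          left_inv := fun i => by rw [← hπmul, inv_mul_cancel, hπone]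
          right_inv := fun i => by rw [← hπmul, mul_inv_cancel, hπone] }
      map_one' := Equiv.ext hπone
      map_mul' := fun x y => Equiv.ext (hπmul x y) }
  have hrange : Nat.card perm.range = 2 := by
    obtain ⟨n, hn⟩ := IsPGroup.iff_card.mp (hP.of_surjective perm.rangeRestrict perm.rangeRestrict_surjective)
    have hdvd : Nat.card perm.range ∣ 6 := by
      have := Subgroup.card_subgroup_dvd_card perm.range
      rwa [Nat.card_perm, Nat.card_fin, show Nat.factorial 3 = 6 from rfl] at this
    have hne1 : Nat.card perm.range ≠ 1 := by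
      intro h1
      rw [Subgroup.card_eq_one] at h1
      obtain ⟨x, hx⟩ := hnotall
      refine hx (hcentral x fun i => ?_)
      have : perm x = 1 := Subgroup.mem_bot.mp (h1.le ⟨x, rfl⟩)
      rw [← hπ x i, show π x i = i from DFunLike.congr_fun this i]
    rw [hn] at hdvd hne1 ⊢
    rcases n with _ | _ | n
    · simp at hne1
    · simp
    · have h4 : 4 ∣ 6 := Dvd.dvd.trans ⟨2 ^ n, by ring⟩ hdvd
      omega
  obtain ⟨⟨τ, hτmem⟩, -, hτ1, hτall⟩ : ∃ τ : perm.range, True ∧ τ ≠ 1 ∧ ∀ u : perm.range, u = 1 ∨ u = τ := by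
    obtain ⟨τ, hτ, hu⟩ := (Nat.card_eq_two_iff' (1 : perm.range)).mp hrange
    exact ⟨τ, trivial, hτ, fun u => (eq_or_ne u 1).imp_right fun h => hu u h⟩
  have hτsq : τ * τ = 1 := by
    rcases hτall ⟨τ * τ, mul_mem hτmem hτmem⟩ with h | h
    · exact congrArg Subtype.val h
    · exact absurd (Subtype.ext (mul_eq_left.mp (congrArg Subtype.val h))) hτ1
  obtain ⟨e, he⟩ := exists_relabel τ hτsq fun h => hτ1 (Subtype.ext h)
  refine ⟨B.reindex e.symm, fun x => ?_⟩
  have hv : ∀ i, (B.reindex e.symm) i = B (e i) := fun i => by simp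
  have hline : ∀ x i, ρ x (B i) = B.repr (ρ x (B i)) (π x i) • B (π x i) := by
    intro x i
    refine (B.sum_repr _).symm.trans (Finset.sum_eq_single _ (fun j _ hj => ?_) (by simp))
    rw [hcoord _ _ (htw x i) j (fun h => hj (hχinj (h.trans (hπ x i).symm))), zero_smul]
  have hcne : ∀ x i, B.repr (ρ x (B i)) (π x i) ≠ 0 := fun x i h =>
    hne x i (by rw [hline x i, h, zero_smul])
  rcases hτall ⟨perm x, x, rfl⟩ with h | h <;> replace h := congrArg Subtype.val h
  · have hfix : ∀ i, π x i = i := fun i => DFunLike.congr_fun h i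
    refine ⟨⟨Units.mk0 _ (hcne x (e 0)), Units.mk0 _ (hcne x (e 1)), Units.mk0 _ (hcne x (e 2)), false⟩,
      fun i => ?_⟩
    simp only [Mono.pos, cond_false, Equiv.Perm.one_apply, hv]
    rw [hline x (e i)]
    fin_cases i <;> simp [Mono.coef, hfix]
  · have hsw : ∀ i, π x (e i) = e (Equiv.swap 0 1 i) := fun i =>
      (DFunLike.congr_fun h (e i)).trans (DFunLike.congr_fun he i)
    refine ⟨⟨Units.mk0 _ (hcne x (e 1)), Units.mk0 _ (hcne x (e 0)), Units.mk0 _ (hcne x (e 2)), true⟩,
      fun i => ?_⟩
    simp only [Mono.pos, cond_true, hv]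
    rw [hline x (e i), hsw]
    fin_cases i <;> simp [Mono.coef, hsw, Equiv.swap_apply_of_ne_of_ne]

/-- A non-commutative 2-group with a faithful representation of degree 3 embeds into `Mono`. -/
theorem exists_mono [Finite P] [IsAlgClosed K] [FiniteDimensional K U] (hU : Module.finrank K U = 3)
    (h2 : (2 : K) ≠ 0) (hP : IsPGroup 2 P) (hinj : Function.Injective ρ) (hnc : ¬ IsMulCommutative P) :
    ∃ ψ : P →* Mono K, Function.Injective ψ := by
  obtain ⟨v, hv⟩ := exists_mono_basis ρ hU h2 hP hinj hnc
  choose f hf using hv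
  refine ⟨{ toFun := f, map_one' := ?_, map_mul' := fun x y => ?_ }, ?_⟩
  · exact Rep.unique ρ v.linearIndependent (hf 1)
      (fun i => by fin_cases i <;> simp [Mono.pos, Mono.coef])
  · exact Rep.unique ρ v.linearIndependent (hf _) (Rep.mul ρ (hf x) (hf y))
  · intro x y h
    refine hinj (v.ext fun i => ?_)
    have h' : f x = f y := h
    rw [hf x i, hf y i, h']

end Cfsg.Agent.GLThreeSylow
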